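import Cfsg.Agent.H5.FC.Core
import Cfsg.Agent.H754.FC.HypEx
import Cfsg.Agent.H762.FC.Base3
import Cfsg.Agent.H786.FC.Parts
import Cfsg.Agent.H412.FC.BBridge

/-!
# S5764 [B-PAR] (helper5)
-/

set_option autoImplicit false

namespace Cfsg.Agent.H5.FC

open Cfsg Cfsg.Agent.H198.FC Cfsg.Agent.H412.FC Cfsg.Agent.H786.FC
open Cfsg.Agent.H200.FC (up up_solv)

universe u v

theorem fiveBV_par {K : Type u} [Field K] [Finite K] {V : Type v} [AddCommGroup V] [Module K V] [Module.Finite K V]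
    {b : Cl K V} (hn : 3 ≤ Module.finrank K V) {G : Subgroup (Equiv.Perm V)} (hG : G ≤ Sim b)
    (hsol : Group.IsSolvable G) (hhom : ∀ a, hm K V a ∈ G) {A : Submodule K V} (hA0 : A ≠ ⊥) (hA : b.TI A)
    (hGA : ∀ g ∈ G, ∀ v ∈ A, g v ∈ A)
    (hmax : ∀ W : Submodule K V, A ≤ W → b.TI W → (∀ g ∈ G, ∀ v ∈ W, g v ∈ W) → W = A) : FiveBV b G := by
  classical
  obtain ⟨ε, l, e, f, H, rfl⟩ := H754.FC.exists_hyp b hA0 hA
  obtain ⟨w, hw, hbase⟩ := H762.FC.exists_base3 hG hsol hhom hA hGA hmax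
  have h1 : ∀ t, ∃ y, Hy.InY b e f y ∧ w t - y ∈ Submodule.span K (Set.range e) := by
    intro t
    obtain ⟨y, hy, h⟩ := H.exists_dec (w t)
    refine ⟨y, hy, ?_⟩
    have h2 : ∑ i, (ε * b.B (w t) (e i)) • f i = 0 := Finset.sum_eq_zero fun i _ => by
      rw [hw t _ (Submodule.subset_span ⟨i, rfl⟩), mul_zero, zero_smul]
    rw [h2, add_zero] at h
    rw [sub_eq_of_eq_add h]
    exact Submodule.sum_mem _ fun i _ => Submodule.smul_mem _ _ (Submodule.subset_span ⟨i, rfl⟩)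
  choose y0 hy0 hwy using h1
  have hb : ∀ g ∈ G, (∀ t, g (y0 t) - y0 t ∈ Submodule.span K (Set.range e)) →
      ∀ v, (∀ j, b.B v (e j) = 0) → g v - v ∈ Submodule.span K (Set.range e) := by
    intro g hg h v hv
    obtain ⟨σ, μ, hs⟩ := hG hg
    refine hbase g hg (fun j => ?_) v (fun a ha => Hy.perp_span hv ha)
    have : g (w j) - w j = g (w j - y0 j) + (g (y0 j) - y0 j) - (w j - y0 j) := by
      rw [hs.map_sub]; abel
    rw [this]
    exact Submodule.sub_mem _ (Submodule.add_mem _ (hGA g hg _ (hwy j)) (h j)) (hwy j)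
  by_cases hY : ∃ v, Hy.InY b e f v ∧ v ≠ 0
  · obtain ⟨v0, hv0, hv0'⟩ := hY
    by_cases hy : ∃ t, y0 t ≠ 0
    · exact par_core H hG hhom hGA hy0 (Or.inl hy) hb
    · push Not at hy
      refine par_core H hG hhom hGA (y := fun _ => v0) (fun _ => hv0) (Or.inl ⟨0, hv0'⟩)
        fun g hg h => hb g hg fun t => ?_
      obtain ⟨σ, μ, hs⟩ := hG hg
      rw [hy, hs.map_zero, sub_zero]
      exact zero_mem _
  · push Not at hY
    refine par_core H hG hhom hGA hy0 (Or.inr ⟨?_, fun v hv => hY v hv⟩) hb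
    by_contra hl
    obtain rfl : l = 0 := by omega
    have h2 : (⊤ : Submodule K V) ≤ Submodule.span K (Set.range ![e 0, f 0]) := by
      intro v _
      obtain ⟨y, hy, h⟩ := H.exists_dec v
      rw [hY y hy, add_zero] at h
      rw [h, Fin.sum_univ_one, Fin.sum_univ_one]
      exact Submodule.add_mem _ (Submodule.smul_mem _ _ (Submodule.subset_span ⟨0, rfl⟩))
        (Submodule.smul_mem _ _ (Submodule.subset_span ⟨1, rfl⟩))
    have h3 : Module.finrank K (⊤ : Submodule K V) ≤ 2 :=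
      (Submodule.finrank_mono h2).trans (finrank_range_le_card (R := K) ![e 0, f 0])
    rw [finrank_top] at h3
    omega

theorem stmtBParK (c : Bool) : StmtBParK.{u, v} c := by
  intro K _ _ V _ _ _ b _ hbig S hS hsol ⟨W, hW0, hW, hSW⟩
  have h3 : 3 ≤ Module.finrank K V := by
    rcases hbig with h | h
    · exact h.2.1
    · exact le_trans (by norm_num) h.2.1
  haveI : Nontrivial V := Module.nontrivial_of_finrank_pos (R := K) (by omega)
  haveI : Finite V := Module.finite_of_finite K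
  refine fiveB_of_up hS ?_
  obtain ⟨A, hWA, hA⟩ := (Set.toFinite
    {X : Submodule K V | b.TI X ∧ ∀ g ∈ up S, ∀ v ∈ X, g v ∈ X}).exists_le_maximal
    (show W ∈ {X : Submodule K V | b.TI X ∧ ∀ g ∈ up S, ∀ v ∈ X, g v ∈ X} from
      ⟨hW, fun g hg w hw => up_stable hSW hg hw⟩)
  refine fiveBV_par h3 (up_le_Sim hS) (up_solv S hsol) (hm_mem_up S) (A := A) ?_ hA.prop.1 hA.prop.2
    fun X hAX hX hGX => le_antisymm (hA.le_of_ge ⟨hX, hGX⟩ hAX) hAX
  rintro rfl
  exact hW0 (le_bot_iff.1 hWA)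

/-- **[B-PAR]** -/
theorem stmtBPar : StmtBPar.{u, v} := stmtBPar_of (stmtBParK true) (stmtBParK false)

end Cfsg.Agent.H5.FC
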