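import Cfsg.Agent.H5.FC.Hyp

/-!
# S5764 [B-PAR]: the stabilizer of a totally isotropic subspace, core of the proof (helper5)
-/

set_option autoImplicit false
set_option linter.unusedSectionVars false

namespace Cfsg.Agent.H5.FC

open Cfsg.Agent.H198.FC Cfsg.Agent.H412.FC

universe u v

variable {K : Type u} [Field K] {V : Type v} [AddCommGroup V] [Module K V]
variable {b : Cl K V} {ε : K} {l : ℕ} {e f : Fin (l + 1) → V}

namespace Hy

theorem map_x {ζ : K} (hζ : ζ ≠ 0) {x : V ≃ₗ[K] V} (hx : ∀ j, x (e j) = -(ζ⁻¹ • f (Fin.rev j))) :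
    (Submodule.span K (Set.range e)).map (x : V →ₗ[K] V) = Submodule.span K (Set.range f) := by
  apply le_antisymm
  · rw [Submodule.map_span, Submodule.span_le]
    rintro _ ⟨_, ⟨j, rfl⟩, rfl⟩
    change x (e j) ∈ _
    rw [hx]
    exact Submodule.neg_mem _ (Submodule.smul_mem _ _ (Submodule.subset_span ⟨_, rfl⟩))
  · rw [Submodule.span_le]
    rintro _ ⟨j, rfl⟩
    refine ⟨-(ζ • e (Fin.rev j)), Submodule.neg_mem _ (Submodule.smul_mem _ _ (Submodule.subset_span ⟨_, rfl⟩)), ?_⟩
    change x _ = _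
    rw [map_neg, map_smul, hx, Fin.rev_rev, smul_neg, neg_neg, smul_smul, mul_inv_cancel₀ hζ, one_smul]

theorem map_mem {A F : Submodule K V} {x : V ≃ₗ[K] V} (hx : A.map (x : V →ₗ[K] V) = F) {g g1 : Equiv.Perm V}
    (h1 : ∀ u, x (g1 u) = g (x u)) (hA : ∀ a ∈ A, g1 a ∈ A) : ∀ c ∈ F, g c ∈ F := by
  intro c hc
  rw [← hx] at hc ⊢
  obtain ⟨a, ha, rfl⟩ := hc
  exact ⟨g1 a, hA a ha, h1 a⟩

variable (H : Hy b ε l e f)
include H

/-- `v` commutes with `g` -/
theorem comm_core {g : Equiv.Perm V} {σ : K ≃+* K} {μ : K} (hs : IsSim b g σ μ)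
    (gA : ∀ a ∈ Submodule.span K (Set.range e), g a ∈ Submodule.span K (Set.range e))
    (gA' : ∀ a ∈ Submodule.span K (Set.range e), g.symm a ∈ Submodule.span K (Set.range e))
    (gF : ∀ a ∈ Submodule.span K (Set.range f), g a ∈ Submodule.span K (Set.range f))
    (gF' : ∀ a ∈ Submodule.span K (Set.range f), g.symm a ∈ Submodule.span K (Set.range f))
    {v : V ≃ₗ[K] V} (iv : ∀ u w, b.B (v u) (v w) = b.B u w)
    (vA : ∀ a ∈ Submodule.span K (Set.range e), v a = a)
    (vY : ∀ w, (∀ j, b.B w (e j) = 0) → v w - w ∈ Submodule.span K (Set.range e))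
    (hF : ∀ c ∈ Submodule.span K (Set.range f), v.symm (g (v c)) ∈ Submodule.span K (Set.range f)) :
    ∀ u, g (v u) = v (g u) := by
  have hA : ∀ a ∈ Submodule.span K (Set.range e), v.symm (g (v a)) = g a := fun a ha => by
    rw [vA a ha, LinearEquiv.symm_apply_eq, vA _ (gA a ha)]
  have hB : ∀ u w, b.B (v.symm (g (v u))) (v.symm (g (v w))) = μ * σ (b.B u w) := fun u w => by
    rw [← iv (v.symm _) (v.symm _), v.apply_symm_apply, v.apply_symm_apply, hs.form, iv]
  have hc : ∀ c ∈ Submodule.span K (Set.range f), v.symm (g (v c)) = g c := by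
    intro c hc
    rw [← sub_eq_zero]
    refine H.eq_zero_f (Submodule.sub_mem _ (hF c hc) (gF c hc)) fun i => ?_
    have he : g.symm (e i) ∈ Submodule.span K (Set.range e) := gA' _ (Submodule.subset_span ⟨i, rfl⟩)
    have h1 := hB c (g.symm (e i))
    have h2 := hs.form c (g.symm (e i))
    rw [hA _ he, g.apply_symm_apply] at h1
    rw [g.apply_symm_apply] at h2
    rw [B_sl, h1, h2, sub_self]
  have hw : ∀ w, InY b e f w → v.symm (g (v w)) = g w := by
    intro w hw
    rw [← sub_eq_zero]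
    refine H.eq_zero_e ?_ fun i => ?_
    · have h1 := vY w hw.e
      have h2 : ∀ j, b.B (g w) (e j) = 0 := by
        intro j
        have := hs.form w (g.symm (e j))
        rw [g.apply_symm_apply] at this
        rw [this, perp_span hw.e (gA' _ (Submodule.subset_span ⟨j, rfl⟩)), map_zero, mul_zero]
      have h3 := vY _ h2
      have h4 : g (v w) = g w + g (v w - w) := by rw [← hs.add, add_sub_cancel]
      have h5 : v.symm (g (v w)) - g w = g (v w - w) - (v (g w) - g w) := by
        apply v.injective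
        rw [map_sub, v.apply_symm_apply, map_sub, vA _ (gA _ h1), vA _ h3, h4]
        abel
      rw [h5]
      exact Submodule.sub_mem _ (gA _ h1) h3
    · have hf : g.symm (f i) ∈ Submodule.span K (Set.range f) := gF' _ (Submodule.subset_span ⟨i, rfl⟩)
      have h1 := hB w (g.symm (f i))
      have h2 := hs.form w (g.symm (f i))
      rw [hc _ hf, g.apply_symm_apply] at h1
      rw [g.apply_symm_apply] at h2
      rw [B_sl, h1, h2, sub_self]
  intro u
  have h : v.symm (g (v u)) = g u := by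
    obtain ⟨y, hy, hu⟩ := H.exists_dec u
    obtain ⟨a, ha, c, hc', hu⟩ : ∃ a ∈ Submodule.span K (Set.range e), ∃ c ∈ Submodule.span K (Set.range f),
        u = a + y + c := ⟨_, Submodule.sum_mem _ fun i _ => Submodule.smul_mem _ _ (Submodule.subset_span ⟨i, rfl⟩), _,
          Submodule.sum_mem _ fun i _ => Submodule.smul_mem _ _ (Submodule.subset_span ⟨i, rfl⟩), hu⟩
    have e1 : v (a + y + c) = v a + v y + v c := by rw [map_add, map_add]
    have e2 : g (v a + v y + v c) = g (v a) + g (v y) + g (v c) := by rw [hs.add, hs.add]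
    rw [hu, e1, e2, map_add, map_add, hA a ha, hw y hy, hc c hc', hs.add, hs.add]
  rwa [LinearEquiv.symm_apply_eq] at h

/-- the rigid triple -/
theorem rigid_core {g : Equiv.Perm V} {σ : K ≃+* K} {μ : K} (hs : IsSim b g σ μ)
    (gF : ∀ a ∈ Submodule.span K (Set.range f), g a ∈ Submodule.span K (Set.range f))
    {m : Fin 3 → Fin (l + 1) → Fin (l + 1) → K} (T : Trip b.τ ε l m)
    (hR : ∀ t j, g (Rm b ε e (m t) (f j)) = Rm b ε e (m t) (g (f j))) :
    (1 ≤ l → σ = RingEquiv.refl K) ∧ ∃ c : K, c ≠ 0 ∧ ∀ j, g (f j) = c • f j := by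
  have hne : ∃ i, ε * b.B (g (f 0)) (e i) ≠ 0 := by
    by_contra hcon
    push Not at hcon
    have hε : ε ≠ 0 := fun h => by
      have := H.kind.sq
      rw [h, zero_mul] at this
      exact zero_ne_one this
    have h1 : g (f 0) = 0 := H.eq_zero_f (gF _ (Submodule.subset_span ⟨0, rfl⟩)) fun i =>
      (mul_eq_zero.1 (hcon i)).resolve_left hε
    have h2 : f 0 = 0 := by
      apply g.injective
      rw [h1, hs.map_zero]
    have h3 := H.ef 0 0
    rw [h2, B_zr, if_pos rfl] at h3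
    exact zero_ne_one h3
  obtain ⟨h1, c, hc⟩ := T.rig σ (fun i j => ε * b.B (g (f j)) (e i)) (fun i k => b.B (g (e k)) (f i)) hne (by
    intro t i j
    have h1 := congrArg (fun u => b.B u (f i)) (hR t j)
    rw [H.Rm_f, hs.map_sum, B_suml, B_Rm_left] at h1
    calc ∑ k, σ (m t j k) * b.B (g (e k)) (f i) = ∑ k, b.B (g (m t j k • e k)) (f i) := by
          refine Finset.sum_congr rfl fun k _ => ?_
          rw [hs.smul, b.smul_left]
      _ = ∑ s, ∑ k, (ε * b.B (g (f j)) (e s)) * m t s k * b.B (e k) (f i) := h1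
      _ = _ := by
          refine Finset.sum_congr rfl fun s _ => ?_
          rw [Finset.sum_eq_single i]
          · rw [H.ef, if_pos rfl, mul_one]
          · intro k _ hk
            rw [H.ef, if_neg hk, mul_zero]
          · intro h; exact absurd (Finset.mem_univ _) h)
  refine ⟨h1, c, ?_, fun j => ?_⟩
  · rintro rfl
    obtain ⟨i, hi⟩ := hne
    apply hi
    rw [hc i 0, ite_self]
  · rw [H.mem_f (gF _ (Submodule.subset_span ⟨j, rfl⟩)), Finset.sum_eq_single j]
    · rw [hc, if_pos rfl]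
    · intro i _ hi
      rw [hc, if_neg hi, zero_smul]
    · intro h; exact absurd (Finset.mem_univ _) h

theorem on_A {g : Equiv.Perm V} {μ : K} (hs : IsSim b g (RingEquiv.refl K) μ)
    (gA : ∀ a ∈ Submodule.span K (Set.range e), g a ∈ Submodule.span K (Set.range e)) {c : K} (hc : c ≠ 0)
    (hf : ∀ j, g (f j) = c • f j) : ∀ a ∈ Submodule.span K (Set.range e), g a = (μ * (b.τ c)⁻¹) • a := by
  intro a ha
  rw [← sub_eq_zero]
  refine H.eq_zero_e (Submodule.sub_mem _ (gA a ha) (Submodule.smul_mem _ _ ha)) fun i => ?_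
  have h1 := hs.form a (f i)
  rw [hf, b.smul_right] at h1
  have hτ : b.τ c ≠ 0 := (map_ne_zero b.τ).2 hc
  rw [B_sl, b.smul_left, sub_eq_zero]
  change b.τ c * b.B (g a) (f i) = μ * b.B a (f i) at h1
  apply mul_left_cancel₀ hτ
  rw [h1]
  field_simp

theorem ext_scalar {g : Equiv.Perm V} {μ : K} (hs : IsSim b g (RingEquiv.refl K) μ) {c : K}
    (hA : ∀ a ∈ Submodule.span K (Set.range e), g a = c • a) (hY : ∀ w, InY b e f w → g w = c • w)
    (hf : ∀ j, g (f j) = c • f j) : ∀ u, g u = c • u := by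
  intro u
  obtain ⟨y, hy, hu⟩ := H.exists_dec u
  obtain ⟨d, hd⟩ : ∃ d : Fin (l + 1) → K, d = fun i => ε * b.B u (e i) := ⟨_, rfl⟩
  have hu' : u = (∑ i, b.B u (f i) • e i) + y + ∑ i, d i • f i := by rw [hd]; exact hu
  obtain ⟨a, ha, hu⟩ : ∃ a ∈ Submodule.span K (Set.range e), u = a + y + ∑ i, d i • f i := ⟨_,
    Submodule.sum_mem _ fun i _ => Submodule.smul_mem _ _ (Submodule.subset_span ⟨i, rfl⟩), hu'⟩
  rw [hu, hs.add, hs.add, hA a ha, hY y hy, hs.map_sum, smul_add, smul_add, Finset.smul_sum]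
  congr 1
  refine Finset.sum_congr rfl fun i _ => ?_
  rw [hs.smul, hf, smul_comm]
  rfl

omit H in
theorem InY.sub {v w : V} (hv : InY b e f v) (hw : InY b e f w) : InY b e f (v - w) :=
  ⟨fun j => by rw [B_sl, hv.e, hw.e, sub_zero], fun j => by rw [B_sl, hv.f, hw.f, sub_zero]⟩

omit H in
theorem InY.smul {w : V} (c : K) (hw : InY b e f w) : InY b e f (c • w) :=
  ⟨fun j => by rw [b.smul_left, hw.e, mul_zero], fun j => by rw [b.smul_left, hw.f, mul_zero]⟩

omit H in
theorem InY.map {g : Equiv.Perm V} {σ : K ≃+* K} {μ : K} (hs : IsSim b g σ μ)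
    (gA' : ∀ a ∈ Submodule.span K (Set.range e), g.symm a ∈ Submodule.span K (Set.range e))
    (gF' : ∀ a ∈ Submodule.span K (Set.range f), g.symm a ∈ Submodule.span K (Set.range f))
    {w : V} (hw : InY b e f w) : InY b e f (g w) := by
  refine ⟨fun j => ?_, fun j => ?_⟩
  · have := hs.form w (g.symm (e j))
    rw [g.apply_symm_apply] at this
    rw [this, perp_span hw.e (gA' _ (Submodule.subset_span ⟨j, rfl⟩)), map_zero, mul_zero]
  · have := hs.form w (g.symm (f j))
    rw [g.apply_symm_apply] at this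
    rw [this, perp_span hw.f (gF' _ (Submodule.subset_span ⟨j, rfl⟩)), map_zero, mul_zero]

theorem InY.eq_zero {w : V} (hw : InY b e f w) (hA : w ∈ Submodule.span K (Set.range e)) : w = 0 :=
  H.eq_zero_e hA hw.f

/-- **case II**: `Y = 0` -/
theorem scalar_two (hl : 1 ≤ l) (hY : ∀ w, InY b e f w → w = 0) {g : Equiv.Perm V} {σ : K ≃+* K} {μ : K}
    (hs : IsSim b g σ μ)
    (gA : ∀ a ∈ Submodule.span K (Set.range e), g a ∈ Submodule.span K (Set.range e))
    (gF : ∀ a ∈ Submodule.span K (Set.range f), g a ∈ Submodule.span K (Set.range f))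
    {m : Fin 3 → Fin (l + 1) → Fin (l + 1) → K} (T : Trip b.τ ε l m)
    (hR : ∀ t j, g (Rm b ε e (m t) (f j)) = Rm b ε e (m t) (g (f j))) : ∃ c : K, c ≠ 0 ∧ ∀ u, g u = c • u := by
  obtain ⟨h1, c, hc, hf⟩ := H.rigid_core hs gF T hR
  obtain rfl := h1 hl
  have hA := H.on_A hs gA hc hf
  refine ⟨c, hc, ?_⟩
  have hm : ∃ t j k, m t j k ≠ 0 := by
    by_contra hcon
    push Not at hcon
    obtain ⟨-, d, hd⟩ := T.rig (RingEquiv.refl K) (fun _ _ => 1) (fun _ _ => 1) ⟨0, one_ne_zero⟩ (by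
      intro t i j
      simp only [hcon, map_zero, zero_mul, mul_zero, Finset.sum_const_zero])
    have h2 := hd 0 (Fin.last l)
    rw [if_neg] at h2
    · exact one_ne_zero h2
    · intro h
      have := congrArg Fin.val h
      rw [Fin.val_last] at this
      have h0 : ((0 : Fin (l + 1)) : ℕ) = 0 := rfl
      omega
  obtain ⟨t, j, k, hm⟩ := hm
  have h3 := hR t j
  rw [hf, map_smul, hA _ (H.Rm_mem _ _)] at h3
  have h4 := congrArg (fun u => b.B u (f k)) h3
  simp only [b.smul_left] at h4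
  have h5 : b.B (Rm b ε e (m t) (f j)) (f k) = m t j k := by
    rw [H.Rm_f, B_suml, Finset.sum_eq_single k]
    · rw [b.smul_left, H.ef, if_pos rfl, mul_one]
    · intro i _ hi
      rw [b.smul_left, H.ef, if_neg hi, mul_zero]
    · intro h; exact absurd (Finset.mem_univ _) h
  rw [h5] at h4
  have h6 := mul_right_cancel₀ hm h4
  rw [h6] at hA
  refine H.ext_scalar hs hA (fun w hw => ?_) hf
  rw [hY w hw, hs.map_zero, smul_zero]

/-- **case I**: `Y ≠ 0` -/
theorem scalar_one {g : Equiv.Perm V} {σ : K ≃+* K} {μ : K} (hs : IsSim b g σ μ)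
    (gA : ∀ a ∈ Submodule.span K (Set.range e), g a ∈ Submodule.span K (Set.range e))
    (gA' : ∀ a ∈ Submodule.span K (Set.range e), g.symm a ∈ Submodule.span K (Set.range e))
    (gF : ∀ a ∈ Submodule.span K (Set.range f), g a ∈ Submodule.span K (Set.range f))
    (gF' : ∀ a ∈ Submodule.span K (Set.range f), g.symm a ∈ Submodule.span K (Set.range f))
    {m : Fin 3 → Fin (l + 1) → Fin (l + 1) → K} (T : Trip b.τ ε l m)
    {y : Fin 3 → V} (hy : ∀ t, InY b e f (y t)) (hy0 : ∃ t, y t ≠ 0) {η : Fin 3 → K}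
    (hc : ∀ t u, g (u + Rm b ε e (m t) u + Si b ε (e 0) (y t) (η t) u) =
      g u + Rm b ε e (m t) (g u) + Si b ε (e 0) (y t) (η t) (g u))
    (hbase : ∀ c : K, c ≠ 0 → (∀ t, g (y t) = c • y t) → ∀ w, InY b e f w → g w = c • w) :
    ∃ c : K, c ≠ 0 ∧ ∀ u, g u = c • u := by
  have hε := H.kind.sq
  have memE : ∀ i, e i ∈ Submodule.span K (Set.range e) := fun i => Submodule.subset_span ⟨i, rfl⟩
  have memF : ∀ i, f i ∈ Submodule.span K (Set.range f) := fun i => Submodule.subset_span ⟨i, rfl⟩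
  have fy : ∀ t, ∀ c ∈ Submodule.span K (Set.range f), b.B c (y t) = 0 := fun t c hc' =>
    span_perp (fun i => by rw [H.sym (y t) (f i), (hy t).f, map_zero, mul_zero]) hc'
  have E : ∀ t j, g (Rm b ε e (m t) (f j)) + g ((ε * b.B (f j) (e 0)) • (y t + η t • e 0)) =
      Rm b ε e (m t) (g (f j)) + (ε * b.B (g (f j)) (e 0)) • (y t + η t • e 0) := by
    intro t j
    have h1 := hc t (f j)
    rw [hs.add, hs.add, Si_apply, Si_apply, fy t _ (memF j), fy t _ (gF _ (memF j)), zero_smul, sub_zero, sub_zero,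
      add_assoc, add_assoc] at h1
    exact add_left_cancel h1
  obtain ⟨t0, ht0⟩ := hy0
  obtain ⟨c, hcd⟩ : ∃ c, c = ε * b.B (g (f 0)) (e 0) := ⟨_, rfl⟩
  have E0 : ∀ t, g (Rm b ε e (m t) (f 0)) + g (y t + η t • e 0) =
      Rm b ε e (m t) (g (f 0)) + c • (y t + η t • e 0) := by
    intro t
    have h1 := E t 0
    rwa [H.fe, if_pos rfl, hε, one_smul, ← hcd] at h1
  have gy : ∀ t, g (y t) = c • y t := by
    intro t
    rw [← sub_eq_zero]
    refine InY.eq_zero H (((hy t).map hs gA' gF').sub ((hy t).smul c)) ?_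
    have h1 := E0 t
    rw [hs.add, smul_add] at h1
    have h2 : g (y t) - c • y t = Rm b ε e (m t) (g (f 0)) + c • η t • e 0 - g (Rm b ε e (m t) (f 0)) -
        g (η t • e 0) := by
      have h3 : g (y t) = Rm b ε e (m t) (g (f 0)) + (c • y t + c • η t • e 0) - g (Rm b ε e (m t) (f 0)) -
        g (η t • e 0) := by rw [← h1]; abel
      rw [h3]; abel
    rw [h2]
    refine Submodule.sub_mem _ (Submodule.sub_mem _ (Submodule.add_mem _ (H.Rm_mem _ _) ?_) (gA _ (H.Rm_mem _ _))) ?_
    · exact Submodule.smul_mem _ _ (Submodule.smul_mem _ _ (memE 0))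
    · exact gA _ (Submodule.smul_mem _ _ (memE 0))
  have d0 : ∀ j, j ≠ 0 → b.B (g (f j)) (e 0) = 0 := by
    intro j hj
    have h1 := E t0 j
    rw [H.fe, if_neg hj, mul_zero, zero_smul, hs.map_zero, add_zero] at h1
    have h2 : (ε * b.B (g (f j)) (e 0)) • y t0 = g (Rm b ε e (m t0) (f j)) - Rm b ε e (m t0) (g (f j)) -
        (ε * b.B (g (f j)) (e 0)) • η t0 • e 0 := by
      rw [h1, smul_add]; abel
    have h3 : (ε * b.B (g (f j)) (e 0)) • y t0 = 0 := by
      refine InY.eq_zero H ((hy t0).smul _) ?_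
      rw [h2]
      exact Submodule.sub_mem _ (Submodule.sub_mem _ (gA _ (H.Rm_mem _ _)) (H.Rm_mem _ _))
        (Submodule.smul_mem _ _ (Submodule.smul_mem _ _ (memE 0)))
    have h4 := (smul_eq_zero.1 h3).resolve_right ht0
    have h5 : ε ≠ 0 := fun h => by rw [h, zero_mul] at hε; exact zero_ne_one hε
    exact (mul_eq_zero.1 h4).resolve_left h5
  have hc0 : c ≠ 0 := by
    intro h
    apply ht0
    apply g.injective
    rw [gy, h, zero_smul, hs.map_zero]
  have gY := hbase c hc0 gy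
  have hσ : σ = RingEquiv.refl K := by
    ext a
    have h1 := gY _ ((hy t0).smul a)
    rw [hs.smul, gy, smul_smul, smul_smul] at h1
    have h2 := smul_left_injective K ht0 h1
    have h3 : c * σ a = c * a := by rw [mul_comm]; exact h2
    exact mul_left_cancel₀ hc0 h3
  subst hσ
  have hμ : μ = c * b.τ c := by
    have h1 : ∃ u, b.B (y t0) u ≠ 0 := by
      by_contra hcon
      push Not at hcon
      exact ht0 (b.nondeg _ hcon)
    obtain ⟨u, hu⟩ := h1
    obtain ⟨y', hy', hu'⟩ := H.exists_dec u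
    have h2 : b.B (y t0) u = b.B (y t0) y' := by
      conv_lhs => rw [hu']
      rw [b.add_right, b.add_right, perp_span (hy t0).e (Submodule.sum_mem _ fun i _ =>
        Submodule.smul_mem _ _ (memE i)), perp_span (hy t0).f (Submodule.sum_mem _ fun i _ =>
        Submodule.smul_mem _ _ (memF i)), zero_add, add_zero]
    rw [h2] at hu
    have h3 := hs.form (y t0) y'
    rw [gy, gY y' hy', b.smul_left, b.smul_right] at h3
    change c * (b.τ c * b.B (y t0) y') = μ * b.B (y t0) y' at h3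
    apply mul_right_cancel₀ hu
    rw [← h3]; ring
  have ge0 : g (e 0) = c • e 0 := by
    have h1 : ∀ c' ∈ Submodule.span K (Set.range f), b.B (g c') (e 0) = c * b.B c' (e 0) := by
      intro c' hc'
      have h2 : b.B (g (∑ i, (ε * b.B c' (e i)) • f i)) (e 0) = c * b.B c' (e 0) := by
        rw [hs.map_sum, B_suml, Finset.sum_eq_single 0]
        · rw [hs.smul, b.smul_left, hcd]
          change ε * b.B c' (e 0) * b.B (g (f 0)) (e 0) = _
          ring
        · intro i _ hi
          rw [hs.smul, b.smul_left, d0 i hi, mul_zero]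
        · intro h; exact absurd (Finset.mem_univ _) h
      rwa [← H.mem_f hc'] at h2
    rw [← sub_eq_zero]
    refine H.eq_zero_e (Submodule.sub_mem _ (gA _ (memE 0)) (Submodule.smul_mem _ _ (memE 0))) fun i => ?_
    have h3 := h1 _ (gF' _ (memF i))
    have h4 := hs.form (g.symm (f i)) (e 0)
    rw [g.apply_symm_apply] at h3 h4
    change _ = μ * b.B _ _ at h4
    rw [H.sym (f i) (g (e 0) - c • e 0), B_sr, h4, b.smul_right, h3, hμ]
    have : c * b.τ c * b.B (g.symm (f i)) (e 0) - b.τ c * (c * b.B (g.symm (f i)) (e 0)) = 0 := by ring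
    rw [this, map_zero, mul_zero]
  have hR : ∀ t j, g (Rm b ε e (m t) (f j)) = Rm b ε e (m t) (g (f j)) := by
    intro t j
    by_cases hj : j = 0
    · subst hj
      have h1 := E0 t
      rw [hs.add, gy, hs.smul, ge0, smul_add] at h1
      have h2 : (RingEquiv.refl K) (η t) • c • e 0 = c • η t • e 0 := smul_comm _ _ _
      rw [h2] at h1
      exact add_right_cancel h1
    · have h1 := E t j
      rwa [H.fe, if_neg hj, mul_zero, zero_smul, hs.map_zero, add_zero, d0 j hj, mul_zero, zero_smul, add_zero] at h1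
  obtain ⟨-, c', hc', hf⟩ := H.rigid_core hs gF T hR
  have hcc : c' = c := by
    rw [hcd, hf, b.smul_left, H.fe, if_pos rfl]
    linear_combination (-c') * hε
  subst hcc
  have hA := H.on_A hs gA hc' hf
  have hτ : b.τ c' ≠ 0 := (map_ne_zero b.τ).2 hc'
  have h7 : μ * (b.τ c')⁻¹ = c' := by rw [hμ]; field_simp
  rw [h7] at hA
  exact ⟨c', hc', H.ext_scalar hs hA gY hf⟩

end Hy

/-- **[B-PAR], core** -/
theorem par_core [Finite K] [Module.Finite K V] (H : Hy b ε l e f) {G : Subgroup (Equiv.Perm V)} (hG : G ≤ Sim b)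
    (hhom : ∀ a, hm K V a ∈ G)
    (hAG : ∀ g ∈ G, ∀ a ∈ Submodule.span K (Set.range e), g a ∈ Submodule.span K (Set.range e))
    {y : Fin 3 → V} (hy : ∀ t, Hy.InY b e f (y t)) (hY : (∃ t, y t ≠ 0) ∨ (1 ≤ l ∧ ∀ v, Hy.InY b e f v → v = 0))
    (hbase : ∀ g ∈ G, (∀ t, g (y t) - y t ∈ Submodule.span K (Set.range e)) →
      ∀ v, (∀ j, b.B v (e j) = 0) → g v - v ∈ Submodule.span K (Set.range e)) : FiveBV b G := by
  obtain ⟨ζ, hζ0, hζ⟩ := exists_zeta b.invol H.kind
  obtain ⟨m, T⟩ := exists_trip b.invol H.kind hζ0 hζ l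
  obtain ⟨x, dx, ix, hx⟩ := H.exists_x hζ0 hζ
  have hη : ∀ t, ∃ η : K, η + ε * b.τ η + b.B (y t) (y t) = 0 ∧ (y t = 0 → η = 0) := fun t => by
    by_cases ht : y t = 0
    · refine ⟨0, ?_, fun _ => rfl⟩
      rw [ht, B_zl, map_zero, mul_zero, add_zero, add_zero]
    · obtain ⟨η, hη⟩ := exists_eta b H.kind H.sym (y t)
      exact ⟨η, hη, fun h => absurd h ht⟩
  choose η hη hη0 using hη
  have hv : ∀ t, ∃ z : V ≃ₗ[K] V, LinearMap.det (z : V →ₗ[K] V) = 1 ∧ (∀ v w, b.B (z v) (z w) = b.B v w) ∧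
      ∀ v, z v = v + Hy.Rm b ε e (m t) v + Hy.Si b ε (e 0) (y t) (η t) v := fun t =>
    H.exists_v (fun i j => T.skew t i j) (hy t).e (hη t)
  choose v dv iv hv using hv
  have mx := Hy.map_x hζ0 hx
  have dsymm : ∀ z : V ≃ₗ[K] V, LinearMap.det (z : V →ₗ[K] V) = 1 → LinearMap.det (z.symm : V →ₗ[K] V) = 1 := by
    intro z hz
    have h1 : LinearMap.det (z : V →ₗ[K] V) * LinearMap.det (z.symm : V →ₗ[K] V) = 1 := by
      rw [← map_mul]
      have : (z : V →ₗ[K] V) * (z.symm : V →ₗ[K] V) = 1 := LinearMap.ext fun u => z.apply_symm_apply u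
      rw [this, map_one]
    rwa [hz, one_mul] at h1
  have isymm : ∀ z : V ≃ₗ[K] V, (∀ v w, b.B (z v) (z w) = b.B v w) → ∀ v w, b.B (z.symm v) (z.symm w) = b.B v w := by
    intro z hz v w
    rw [← hz, z.apply_symm_apply, z.apply_symm_apply]
  refine ⟨Fin.cons x.symm fun t => (x.trans (v t)).symm, fun i => ?_, fun i => ?_, fun g hg hgi => ?_⟩
  · refine Fin.cases ?_ (fun t => ?_) i
    · exact dsymm _ dx
    · refine dsymm _ ?_
      rw [LinearEquiv.coe_trans, LinearMap.det_comp, dx, dv, one_mul]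
  · refine Fin.cases ?_ (fun t => ?_) i
    · exact isymm _ ix
    · refine isymm _ fun u w => ?_
      change b.B (v t (x u)) (v t (x w)) = _
      rw [iv, ix]
  · obtain ⟨σ, μ, hs⟩ := hG hg
    have gA := hAG g hg
    have gA' : ∀ a ∈ Submodule.span K (Set.range e), g.symm a ∈ Submodule.span K (Set.range e) := hAG g⁻¹ (inv_mem hg)
    obtain ⟨g1, hg1, h1⟩ : ∃ g1 ∈ G, ∀ u, x (g1 u) = g (x u) := by
      refine ⟨_, hgi 0, fun u => ?_⟩
      change x (x.symm (g (x u))) = _
      rw [x.apply_symm_apply]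
    have h1' : ∀ u, x (g1.symm u) = g.symm (x u) := by
      intro u
      rw [Equiv.eq_symm_apply, ← h1, g1.apply_symm_apply]
    have gF := Hy.map_mem mx h1 (hAG g1 hg1)
    have gF' := Hy.map_mem mx h1' (hAG g1⁻¹ (inv_mem hg1))
    have hc : ∀ t u, g (v t u) = v t (g u) := by
      intro t
      obtain ⟨g2, hg2, h2⟩ : ∃ g2 ∈ G, ∀ u, v t (x (g2 u)) = g (v t (x u)) := by
        refine ⟨_, hgi t.succ, fun u => ?_⟩
        change v t (x ((x.trans (v t)).symm (g (v t (x u))))) = _
        exact (x.trans (v t)).apply_symm_apply _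
      have hmem : ∀ w, (∀ j, b.B w (e j) = 0) → v t w - w ∈ Submodule.span K (Set.range e) := by
        intro w hw
        rw [hv, Hy.Si_apply, hw, mul_zero, zero_smul, Hy.Rm_perp _ hw]
        have : w + 0 + (0 - b.B w (y t) • e 0) - w = -(b.B w (y t) • e 0) := by abel
        rw [this]
        exact Submodule.neg_mem _ (Submodule.smul_mem _ _ (Submodule.subset_span ⟨0, rfl⟩))
      refine H.comm_core hs gA gA' gF gF' (iv t) (fun a ha => ?_) hmem fun c hc => ?_
      · have h3 : ∀ j, b.B a (e j) = 0 := fun j => Hy.span_perp (fun i => H.ee i j) ha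
        have h4 : b.B a (y t) = 0 :=
          Hy.span_perp (fun i => by rw [H.sym (y t) (e i), (hy t).e, map_zero, mul_zero]) ha
        rw [hv, Hy.Si_apply, h3, h4, mul_zero, zero_smul, zero_smul, Hy.Rm_perp _ h3]
        abel
      · rw [← mx] at hc ⊢
        obtain ⟨a, ha, rfl⟩ := hc
        refine ⟨g2 a, hAG g2 hg2 a ha, ?_⟩
        change x (g2 a) = (v t).symm (g (v t (x a)))
        rw [LinearEquiv.eq_symm_apply, h2]
    have hc' : ∀ t u, g (u + Hy.Rm b ε e (m t) u + Hy.Si b ε (e 0) (y t) (η t) u) =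
        g u + Hy.Rm b ε e (m t) (g u) + Hy.Si b ε (e 0) (y t) (η t) (g u) := fun t u => by
      rw [← hv, ← hv, hc]
    have hfin : ∃ c : K, c ≠ 0 ∧ ∀ u, g u = c • u := by
      rcases hY with hY | ⟨hl, hY⟩
      · refine H.scalar_one hs gA gA' gF gF' T hy hY hc' fun c hc0 hcy w hw => ?_
        -- the base
        have hcG : hm K V (Units.mk0 c hc0)⁻¹ * g ∈ G := mul_mem (hhom _) hg
        have h3 := hbase _ hcG (fun t => by
          rw [Equiv.Perm.mul_apply, hm_apply, hcy, smul_smul, Units.val_inv_eq_inv_val, Units.val_mk0,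
            inv_mul_cancel₀ hc0, one_smul, sub_self]
          exact zero_mem _) w hw.e
        rw [Equiv.Perm.mul_apply, hm_apply, Units.val_inv_eq_inv_val, Units.val_mk0] at h3
        have h4 : c⁻¹ • g w - w = 0 :=
          Hy.InY.eq_zero H (((hw.map hs gA' gF').smul _).sub hw) h3
        have h5 := congrArg (fun u => c • u) h4
        simp only [smul_sub, smul_zero, smul_smul, mul_inv_cancel₀ hc0, one_smul] at h5
        exact sub_eq_zero.1 h5
      · refine H.scalar_two hl hY hs gA gF T fun t j => ?_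
        have h3 := hc' t (f j)
        have hy0 := hY _ (hy t)
        have hS : ∀ u, Hy.Si b ε (e 0) (y t) (η t) u = 0 := by
          intro u
          rw [Hy.Si_apply, hη0 t hy0, hy0, B_zr, zero_smul, sub_zero, zero_add, smul_zero]
        rw [hS, hS, add_zero, add_zero, hs.add] at h3
        exact add_left_cancel h3
    obtain ⟨c, hc0, hcu⟩ := hfin
    refine ⟨Units.mk0 c hc0, ?_⟩
    ext u
    rw [hcu, hm_apply, Units.val_mk0]


end Cfsg.Agent.H5.FC
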