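import Cfsg.Agent.H5.FC.Trip
import Cfsg.Agent.H412.FC.Lang

/-!
# S5764 [B-PAR]: geometry of a totally isotropic subspace (helper5)
-/

set_option autoImplicit false
set_option linter.unusedSectionVars false

namespace Cfsg.Agent.H5.FC

open Cfsg.Agent.H198.FC Cfsg.Agent.H412.FC

universe u v

section basics

variable {K : Type u} [Field K] {V : Type v} [AddCommGroup V] [Module K V] (b : Cl K V)

theorem B_zl (w : V) : b.B 0 w = 0 := by
  have h := b.smul_left 0 0 w
  rwa [zero_smul, zero_mul] at h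

theorem B_zr (w : V) : b.B w 0 = 0 := by
  have h := b.smul_right 0 w 0
  rwa [zero_smul, map_zero, zero_mul] at h

theorem B_nl (v w : V) : b.B (-v) w = -b.B v w := by
  have h := b.smul_left (-1) v w
  rwa [neg_one_smul, neg_one_mul] at h

theorem B_nr (v w : V) : b.B v (-w) = -b.B v w := by
  have h := b.smul_right (-1) v w
  rwa [neg_one_smul, map_neg, map_one, neg_one_mul] at h

theorem B_sl (u v w : V) : b.B (u - v) w = b.B u w - b.B v w := by
  rw [sub_eq_add_neg, b.add_left, B_nl, ← sub_eq_add_neg]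

theorem B_sr (u v w : V) : b.B u (v - w) = b.B u v - b.B u w := by
  rw [sub_eq_add_neg, b.add_right, B_nr, ← sub_eq_add_neg]

theorem B_suml {ι : Type*} (s : Finset ι) (g : ι → V) (w : V) : b.B (∑ i ∈ s, g i) w = ∑ i ∈ s, b.B (g i) w := by
  classical
  induction s using Finset.induction_on with
  | empty => rw [Finset.sum_empty, Finset.sum_empty, B_zl]
  | insert a s ha ih => rw [Finset.sum_insert ha, Finset.sum_insert ha, b.add_left, ih]

theorem B_sumr {ι : Type*} (s : Finset ι) (g : ι → V) (w : V) : b.B w (∑ i ∈ s, g i) = ∑ i ∈ s, b.B w (g i) := by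
  classical
  induction s using Finset.induction_on with
  | empty => rw [Finset.sum_empty, Finset.sum_empty, B_zr]
  | insert a s ha ih => rw [Finset.sum_insert ha, Finset.sum_insert ha, b.add_right, ih]

theorem eq_of_B {v w : V} (h : ∀ u, b.B v u = b.B w u) : v = w := by
  rw [← sub_eq_zero]
  exact b.nondeg _ fun u => by rw [B_sl, h, sub_self]

/-- the sign -/
theorem exists_eps : ∃ ε : K, KindE b.τ ε ∧ ∀ v w, b.B w v = ε * b.τ (b.B v w) := by
  rcases b.typ with ⟨h, h1⟩ | ⟨h, h1⟩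
  · exact ⟨1, Or.inl ⟨rfl, h⟩, fun v w => by rw [one_mul]; exact h1 v w⟩
  · refine ⟨-1, Or.inr ⟨rfl, h⟩, fun v w => ?_⟩
    have h2 := h1 (v + w)
    rw [b.add_left, b.add_right, b.add_right, h1, h1, zero_add, add_zero] at h2
    rw [h]
    linear_combination h2

theorem KindE.sq {τ : K ≃+* K} {ε : K} (h : KindE τ ε) : ε * ε = 1 := by
  rcases h with ⟨rfl, -⟩ | ⟨rfl, -⟩ <;> ring

theorem KindE.tau {τ : K ≃+* K} {ε : K} (h : KindE τ ε) : τ ε = ε := by
  rcases h with ⟨rfl, -⟩ | ⟨rfl, -⟩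
  · exact map_one τ
  · rw [map_neg, map_one]

/-- traces -/
theorem exists_eta {ε : K} (h : KindE b.τ ε) (hs : ∀ v w, b.B w v = ε * b.τ (b.B v w)) (y : V) :
    ∃ η : K, η + ε * b.τ η + b.B y y = 0 := by
  rcases h with ⟨rfl, a, ha⟩ | ⟨rfl, h⟩
  · obtain ⟨θ, hθ⟩ : ∃ θ : K, θ + b.τ θ ≠ 0 := by
      by_contra hcon
      push Not at hcon
      have h1 := hcon 1
      rw [map_one] at h1
      have h2 := hcon a
      apply ha
      have h3 : b.τ a = -a := by linear_combination h2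
      rw [h3]
      have h4 : (-1 : K) = 1 := by linear_combination -h1
      rw [← neg_one_mul, h4, one_mul]
    have h1 := hs y y
    rw [one_mul] at h1
    refine ⟨-(b.B y y * θ / (θ + b.τ θ)), ?_⟩
    rw [one_mul, map_neg, map_div₀, map_mul, ← h1, map_add, b.invol, add_comm (b.τ θ) θ]
    field_simp
    ring
  · refine ⟨0, ?_⟩
    rw [map_zero, mul_zero]
    have h1 := hs y y
    rw [h] at h1
    rcases b.typ with ⟨⟨c, hc⟩, -⟩ | ⟨-, h2⟩
    · exact absurd (h c) hc
    · rw [h2]; ring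

theorem det_unip [Finite K] [Module.Finite K V] {N : Module.End K V} (hN : IsNilpotent N) :
    LinearMap.det (1 + N) = 1 := by
  rcases subsingleton_or_nontrivial V with hV | hV
  · have : (1 + N : Module.End K V) = 1 := LinearMap.ext fun v => Subsingleton.elim _ _
    rw [this]
    exact LinearMap.det_id
  obtain ⟨p, hp⟩ := CharP.exists K
  have hpp : Fact p.Prime := ⟨CharP.char_is_prime K p⟩
  have h1 : CharP (Module.End K V) p := charP_of_injective_algebraMap (algebraMap K (Module.End K V)).injective p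
  obtain ⟨n, hn⟩ := hN
  have h2 : (1 + N) ^ p ^ n = 1 := by
    rw [add_pow_char_pow_of_commute (p := p) (h := Commute.one_left N), one_pow,
      pow_eq_zero_of_le (Nat.lt_pow_self hpp.out.one_lt).le hn, add_zero]
  have h3 : LinearMap.det (1 + N) ^ p ^ n = 1 := by rw [← map_pow, h2, map_one]
  have h4 : (LinearMap.det (1 + N) - 1) ^ p ^ n = 0 := by
    rw [sub_pow_char_pow (p := p), h3, one_pow, sub_self]
  exact sub_eq_zero.1 (pow_eq_zero_iff (pow_ne_zero _ hpp.out.ne_zero) |>.1 h4)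

/-- a unipotent isometry -/
theorem exists_ue [Finite K] [Module.Finite K V] {N : Module.End K V} (hN : IsNilpotent N)
    (h : ∀ v w, b.B (v + N v) (w + N w) = b.B v w) : ∃ x : V ≃ₗ[K] V, (∀ v, x v = v + N v) ∧
      LinearMap.det (x : V →ₗ[K] V) = 1 := by
  have hinj : Function.Injective (1 + N : Module.End K V) := by
    intro v w hvw
    apply eq_of_B b
    intro u
    rw [← h v u, ← h w u]
    have : v + N v = w + N w := hvw
    rw [this]
  refine ⟨LinearEquiv.ofInjectiveEndo (1 + N) hinj, fun v => rfl, ?_⟩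
  have : ((LinearEquiv.ofInjectiveEndo (1 + N) hinj : V ≃ₗ[K] V) : V →ₗ[K] V) = 1 + N := rfl
  rw [this]
  exact det_unip hN

end basics

section hyp

variable {K : Type u} [Field K] {V : Type v} [AddCommGroup V] [Module K V]

/-- hyperbolic pairs -/
structure Hy (b : Cl K V) (ε : K) (l : ℕ) (e f : Fin (l + 1) → V) : Prop where
  kind : KindE b.τ ε
  sym : ∀ v w, b.B w v = ε * b.τ (b.B v w)
  ee : ∀ i j, b.B (e i) (e j) = 0
  ff : ∀ i j, b.B (f i) (f j) = 0
  ef : ∀ i j, b.B (e i) (f j) = if i = j then 1 else 0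

variable {b : Cl K V} {ε : K} {l : ℕ} {e f : Fin (l + 1) → V}

namespace Hy

variable (H : Hy b ε l e f)
include H

theorem fe (i j : Fin (l + 1)) : b.B (f i) (e j) = if i = j then ε else 0 := by
  rw [H.sym (e j) (f i), H.ef]
  by_cases h : i = j
  · rw [if_pos h, if_pos h.symm, map_one, mul_one]
  · rw [if_neg h, if_neg (Ne.symm h), map_zero, mul_zero]

theorem swap : Hy b ε l f (fun i => ε • e i) where
  kind := H.kind
  sym := H.sym
  ee := H.ff
  ff i j := by rw [b.smul_left, b.smul_right, H.ee, mul_zero, mul_zero]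
  ef i j := by
    rw [b.smul_right, H.fe, H.kind.tau]
    by_cases h : i = j
    · rw [if_pos h, if_pos h, H.kind.sq]
    · rw [if_neg h, if_neg h, mul_zero]

omit H in
/-- the pure operator of a matrix -/
def Rm (b : Cl K V) (ε : K) (e : Fin (l + 1) → V) (m : Fin (l + 1) → Fin (l + 1) → K) : Module.End K V where
  toFun v := ∑ j, (ε * b.B v (e j)) • ∑ k, m j k • e k
  map_add' v w := by
    rw [← Finset.sum_add_distrib]
    refine Finset.sum_congr rfl fun j _ => ?_
    rw [b.add_left, mul_add, add_smul]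
  map_smul' c v := by
    rw [RingHom.id_apply, Finset.smul_sum]
    refine Finset.sum_congr rfl fun j _ => ?_
    rw [b.smul_left, smul_smul]
    congr 1
    ring

omit H in
theorem Rm_apply (m : Fin (l + 1) → Fin (l + 1) → K) (v : V) :
    Rm b ε e m v = ∑ j, (ε * b.B v (e j)) • ∑ k, m j k • e k := rfl

omit H in
theorem Rm_perp (m : Fin (l + 1) → Fin (l + 1) → K) {v : V} (hv : ∀ j, b.B v (e j) = 0) : Rm b ε e m v = 0 := by
  rw [Rm_apply]
  refine Finset.sum_eq_zero fun j _ => ?_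
  rw [hv, mul_zero, zero_smul]

theorem Rm_f (m : Fin (l + 1) → Fin (l + 1) → K) (j : Fin (l + 1)) : Rm b ε e m (f j) = ∑ k, m j k • e k := by
  rw [Rm_apply, Finset.sum_eq_single j]
  · rw [H.fe, if_pos rfl, H.kind.sq, one_smul]
  · intro i _ hi
    rw [H.fe, if_neg (Ne.symm hi), mul_zero, zero_smul]
  · intro h; exact absurd (Finset.mem_univ _) h

omit H in
theorem B_Rm_left (m : Fin (l + 1) → Fin (l + 1) → K) (v w : V) :
    b.B (Rm b ε e m v) w = ∑ j, ∑ k, (ε * b.B v (e j)) * m j k * b.B (e k) w := by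
  rw [Rm_apply, B_suml]
  refine Finset.sum_congr rfl fun j _ => ?_
  rw [b.smul_left, B_suml, Finset.mul_sum]
  refine Finset.sum_congr rfl fun k _ => ?_
  rw [b.smul_left]
  ring

theorem B_Rm_right (m : Fin (l + 1) → Fin (l + 1) → K) (v w : V) :
    b.B v (Rm b ε e m w) = ∑ j, ∑ k, b.B (e j) w * b.τ (m j k) * b.B v (e k) := by
  rw [Rm_apply, B_sumr]
  refine Finset.sum_congr rfl fun j _ => ?_
  rw [b.smul_right, B_sumr, Finset.mul_sum]
  refine Finset.sum_congr rfl fun k _ => ?_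
  rw [b.smul_right, map_mul, H.kind.tau, H.sym w (e j)]
  ring

/-- `B (Rm v) a = 0` if `a` is orthogonal to the `e k` -/
theorem B_Rm_zero (m : Fin (l + 1) → Fin (l + 1) → K) (v : V) {w : V} (hw : ∀ k, b.B (e k) w = 0) :
    b.B (Rm b ε e m v) w = 0 := by
  rw [B_Rm_left]
  refine Finset.sum_eq_zero fun j _ => Finset.sum_eq_zero fun k _ => ?_
  rw [hw, mul_zero]

theorem Rm_skew {m : Fin (l + 1) → Fin (l + 1) → K} (hm : ∀ i j, m i j = -(ε * b.τ (m j i))) (v w : V) :
    b.B (Rm b ε e m v) w + b.B v (Rm b ε e m w) = 0 := by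
  rw [B_Rm_left, H.B_Rm_right, Finset.sum_comm, ← Finset.sum_add_distrib]
  refine Finset.sum_eq_zero fun j _ => ?_
  rw [← Finset.sum_add_distrib]
  refine Finset.sum_eq_zero fun k _ => ?_
  have h1 : b.τ (m j k) = -(ε * m k j) := by
    rw [hm j k, map_neg, map_mul, b.invol, H.kind.tau]
  rw [h1]
  ring

theorem Rm_iso {m : Fin (l + 1) → Fin (l + 1) → K} (hm : ∀ i j, m i j = -(ε * b.τ (m j i))) (v w : V) :
    b.B (v + Rm b ε e m v) (w + Rm b ε e m w) = b.B v w := by
  have h1 := H.Rm_skew hm v w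
  have h2 : b.B (Rm b ε e m v) (Rm b ε e m w) = 0 := by
    refine H.B_Rm_zero m v fun k => ?_
    rw [H.B_Rm_right]
    refine Finset.sum_eq_zero fun j _ => Finset.sum_eq_zero fun k _ => ?_
    rw [H.ee, mul_zero]
  rw [b.add_left, b.add_right, b.add_right, h2]
  linear_combination h1

theorem Rm_e (m : Fin (l + 1) → Fin (l + 1) → K) (i : Fin (l + 1)) : Rm b ε e m (e i) = 0 :=
  Rm_perp m fun j => H.ee i j

theorem Rm_Rm (m : Fin (l + 1) → Fin (l + 1) → K) (v : V) : Rm b ε e m (Rm b ε e m v) = 0 := by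
  refine Rm_perp m fun j => ?_
  exact H.B_Rm_zero m v fun k => H.ee k j

theorem Rm_nil (m : Fin (l + 1) → Fin (l + 1) → K) : IsNilpotent (Rm b ε e m) :=
  ⟨2, by rw [sq]; exact LinearMap.ext fun v => H.Rm_Rm m v⟩

/-- the unipotent isometry of a skew matrix -/
theorem exists_u [Finite K] [Module.Finite K V] {m : Fin (l + 1) → Fin (l + 1) → K}
    (hm : ∀ i j, m i j = -(ε * b.τ (m j i))) : ∃ x : V ≃ₗ[K] V, (∀ v, x v = v + Rm b ε e m v) ∧
      LinearMap.det (x : V →ₗ[K] V) = 1 ∧ ∀ v w, b.B (x v) (x w) = b.B v w := by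
  obtain ⟨x, h1, h2⟩ := exists_ue b (H.Rm_nil m) (H.Rm_iso hm)
  exact ⟨x, h1, h2, fun v w => by rw [h1, h1]; exact H.Rm_iso hm v w⟩

omit H in
theorem sum_mJ (ζ : K) (e : Fin (l + 1) → V) (j : Fin (l + 1)) : ∑ k, mJ ζ l j k • e k = ζ • e (Fin.rev j) := by
  rw [Finset.sum_eq_single (Fin.rev j)]
  · rw [mJ, if_pos]
    rw [Fin.val_rev]; omega
  · intro k _ hk
    rw [mJ, if_neg, zero_smul]
    intro h
    apply hk
    apply Fin.ext
    rw [Fin.val_rev]; omega
  · intro h; exact absurd (Finset.mem_univ _) h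

omit H in
theorem mJ_skew {τ : K ≃+* K} {ε ζ : K} (hζ : ζ = -(ε * τ ζ)) (i j : Fin (l + 1)) :
    mJ ζ l i j = -(ε * τ (mJ ζ l j i)) := by
  rw [mJ, mJ]
  by_cases hij : (i : ℕ) + j = l
  · rw [if_pos hij, if_pos (by omega)]
    exact hζ
  · rw [if_neg hij, if_neg (by omega), map_zero, mul_zero, neg_zero]

/-- **the opposite** -/
theorem exists_x [Finite K] [Module.Finite K V] {ζ : K} (hζ0 : ζ ≠ 0) (hζ : b.τ ζ = -(ε * ζ)) :
    ∃ x : V ≃ₗ[K] V, LinearMap.det (x : V →ₗ[K] V) = 1 ∧ (∀ v w, b.B (x v) (x w) = b.B v w) ∧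
      ∀ j, x (e j) = -(ζ⁻¹ • f (Fin.rev j)) := by
  have hε := H.kind.sq
  have hε0 : ε ≠ 0 := fun h => by rw [h, zero_mul] at hε; exact zero_ne_one hε
  have hζ1 : ζ = -(ε * b.τ ζ) := by
    rw [hζ]
    linear_combination (-ζ) * hε
  have hζ2 : -(ε * ζ⁻¹) = -(ε * b.τ (-(ε * ζ⁻¹))) := by
    rw [map_neg, map_mul, H.kind.tau, map_inv₀, hζ]
    have : (-(ε * ζ))⁻¹ = -(ε * ζ⁻¹) := by
      apply inv_eq_of_mul_eq_one_left
      have h1 : ζ⁻¹ * ζ = 1 := inv_mul_cancel₀ hζ0
      linear_combination hε + ε * ε * h1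
    rw [this]
    linear_combination (ε * ζ⁻¹) * hε
  obtain ⟨u, hu, du, iu⟩ := H.exists_u (m := mJ ζ l) (mJ_skew hζ1)
  obtain ⟨w, hw, dw, iw⟩ := H.swap.exists_u (m := mJ (-(ε * ζ⁻¹)) l) (mJ_skew hζ2)
  refine ⟨(u.trans w).trans u, ?_, fun v v' => ?_, fun j => ?_⟩
  · rw [LinearEquiv.coe_trans, LinearMap.det_comp, LinearEquiv.coe_trans, LinearMap.det_comp, du, dw, one_mul, one_mul]
  · change b.B (u (w (u v))) (u (w (u v'))) = _
    rw [iu, iw, iu]
  · change u (w (u (e j))) = _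
    rw [hu (e j), H.Rm_e, add_zero, hw (e j), Rm_apply, Finset.sum_eq_single j]
    · rw [H.ef, if_pos rfl, mul_one, sum_mJ, hu, map_add, H.Rm_e, map_smul, map_smul, H.Rm_f, sum_mJ, Fin.rev_rev,
        zero_add, smul_smul, smul_smul, smul_smul]
      have e1 : ε * -(ε * ζ⁻¹) = -ζ⁻¹ := by linear_combination (-ζ⁻¹) * hε
      rw [e1, neg_mul, inv_mul_cancel₀ hζ0, neg_one_smul, neg_smul]
      abel
    · intro k _ hk
      rw [H.ef, if_neg (Ne.symm hk), mul_zero, zero_smul]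
    · intro h; exact absurd (Finset.mem_univ _) h

/-! ### the Siegel elements -/

omit H in
/-- the Siegel operator -/
def Si (b : Cl K V) (ε : K) (e₀ y : V) (η : K) : Module.End K V where
  toFun v := (ε * b.B v e₀) • (y + η • e₀) - b.B v y • e₀
  map_add' v w := by
    rw [b.add_left, b.add_left, mul_add, add_smul, add_smul]
    abel
  map_smul' c v := by
    rw [b.smul_left, b.smul_left, RingHom.id_apply, smul_sub, smul_smul, smul_smul]
    congr 2
    ring

omit H in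
theorem Si_apply (e₀ y : V) (η : K) (v : V) :
    Si b ε e₀ y η v = (ε * b.B v e₀) • (y + η • e₀) - b.B v y • e₀ := rfl

omit H in
theorem Si_iso (hk : KindE b.τ ε) (hs : ∀ v w, b.B w v = ε * b.τ (b.B v w)) {e₀ y : V} {η : K} (h0 : b.B e₀ e₀ = 0)
    (h1 : b.B y e₀ = 0) (h2 : b.B e₀ y = 0) (hη : η + ε * b.τ η + b.B y y = 0) (v w : V) :
    b.B (v + Si b ε e₀ y η v) (w + Si b ε e₀ y η w) = b.B v w := by
  have hε := hk.sq
  have a1 : b.B y w = ε * b.τ (b.B w y) := hs w y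
  have a2 : b.B e₀ w = ε * b.τ (b.B w e₀) := hs w e₀
  rw [Si_apply, Si_apply]
  simp only [b.add_left, b.add_right, B_sl, B_sr, b.smul_left, b.smul_right, h0, h1, h2, map_mul, hk.tau, a1, a2]
  obtain ⟨P, hP⟩ : ∃ P, P = b.B v e₀ := ⟨_, rfl⟩
  obtain ⟨Q, hQ⟩ : ∃ Q, Q = b.B v y := ⟨_, rfl⟩
  obtain ⟨P', hP'⟩ : ∃ P', P' = b.τ (b.B w e₀) := ⟨_, rfl⟩
  obtain ⟨Q', hQ'⟩ : ∃ Q', Q' = b.τ (b.B w y) := ⟨_, rfl⟩
  rw [← hP, ← hQ, ← hP', ← hQ']
  linear_combination (P * P' * ε * ε) * hη + (P * Q' - ε * P * P' * b.τ η) * hε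


omit H in
theorem Si_e {e₀ y : V} {η : K} (h0 : b.B e₀ e₀ = 0) (h2 : b.B e₀ y = 0) : Si b ε e₀ y η e₀ = 0 := by
  rw [Si_apply, h0, h2, mul_zero, zero_smul, zero_smul, sub_zero]

omit H in
theorem Si_nil {e₀ y : V} {η : K} (h0 : b.B e₀ e₀ = 0) (h1 : b.B y e₀ = 0) (h2 : b.B e₀ y = 0) :
    IsNilpotent (Si b ε e₀ y η) := by
  refine ⟨3, LinearMap.ext fun v => ?_⟩
  have hy : Si b ε e₀ y η y = -(b.B y y • e₀) := by
    rw [Si_apply, h1, mul_zero, zero_smul, zero_sub]
  have h3 : Si b ε e₀ y η (Si b ε e₀ y η v) = -(((ε * b.B v e₀) * b.B y y) • e₀) := by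
    conv_lhs => rw [Si_apply e₀ y η v]
    rw [map_sub, map_smul, map_smul, map_add, map_smul, Si_e h0 h2, hy, smul_zero, smul_zero, add_zero, sub_zero,
      smul_neg, smul_smul]
  have h4 : (Si b ε e₀ y η ^ 3) v = Si b ε e₀ y η (Si b ε e₀ y η (Si b ε e₀ y η v)) := by
    rw [pow_succ, pow_two]
    rfl
  rw [h4, h3, map_neg, map_smul, Si_e h0 h2, smul_zero, neg_zero]
  rfl

/-- the unipotent isometries of the proof -/
theorem exists_v [Finite K] [Module.Finite K V] {m : Fin (l + 1) → Fin (l + 1) → K}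
    (hm : ∀ i j, m i j = -(ε * b.τ (m j i))) {y : V} {η : K} (hy : ∀ j, b.B y (e j) = 0)
    (hη : η + ε * b.τ η + b.B y y = 0) :
    ∃ x : V ≃ₗ[K] V, LinearMap.det (x : V →ₗ[K] V) = 1 ∧ (∀ v w, b.B (x v) (x w) = b.B v w) ∧
      ∀ v, x v = v + Rm b ε e m v + Si b ε (e 0) y η v := by
  have hy' : ∀ j, b.B (e j) y = 0 := fun j => by rw [H.sym y, hy, map_zero, mul_zero]
  obtain ⟨u, hu, du, iu⟩ := H.exists_u hm
  have si := Si_iso (e₀ := e 0) H.kind H.sym (H.ee 0 0) (hy 0) (hy' 0) hη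
  obtain ⟨s, hs, ds⟩ := exists_ue b (Si_nil (ε := ε) (η := η) (H.ee 0 0) (hy 0) (hy' 0)) si
  refine ⟨u.trans s, ?_, fun v w => ?_, fun v => ?_⟩
  · rw [LinearEquiv.coe_trans, LinearMap.det_comp, du, ds, one_mul]
  · change b.B (s (u v)) (s (u w)) = _
    rw [hs, hs, si, iu]
  · change s (u v) = _
    rw [hs, hu, map_add]
    have h1 : Si b ε (e 0) y η (Rm b ε e m v) = 0 := by
      rw [Si_apply, H.B_Rm_zero m v fun k => H.ee k 0, H.B_Rm_zero m v fun k => hy' k, mul_zero, zero_smul, zero_smul,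
        sub_zero]
    rw [h1, add_zero]

/-! ### decomposition -/

/-- `Y` -/
structure InY (b : Cl K V) (e f : Fin (l + 1) → V) (w : V) : Prop where
  e : ∀ j, b.B w (e j) = 0
  f : ∀ j, b.B w (f j) = 0

theorem exists_dec (v : V) : ∃ y, InY b e f y ∧ v = (∑ i, b.B v (f i) • e i) + y + ∑ i, (ε * b.B v (e i)) • f i := by
  refine ⟨v - (∑ i, b.B v (f i) • e i) - ∑ i, (ε * b.B v (e i)) • f i, ⟨fun j => ?_, fun j => ?_⟩, by abel⟩
  · rw [B_sl, B_sl, B_suml, B_suml, Finset.sum_eq_zero, Finset.sum_eq_single j]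
    · rw [b.smul_left, H.fe, if_pos rfl]
      linear_combination (-b.B v (e j)) * H.kind.sq
    · intro k _ hk
      rw [b.smul_left, H.fe, if_neg hk, mul_zero]
    · intro h; exact absurd (Finset.mem_univ _) h
    · intro k _
      rw [b.smul_left, H.ee, mul_zero]
  · rw [B_sl, B_sl, B_suml, B_suml, Finset.sum_eq_single j, Finset.sum_eq_zero]
    · rw [b.smul_left, H.ef, if_pos rfl]
      ring
    · intro k _
      rw [b.smul_left, H.ff, mul_zero]
    · intro k _ hk
      rw [b.smul_left, H.ef, if_neg hk, mul_zero]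
    · intro h; exact absurd (Finset.mem_univ _) h

theorem mem_f {c : V} (hc : c ∈ Submodule.span K (Set.range f)) : c = ∑ i, (ε * b.B c (e i)) • f i := by
  obtain ⟨d, rfl⟩ := (Submodule.mem_span_range_iff_exists_fun K).1 hc
  refine Finset.sum_congr rfl fun i _ => ?_
  congr 1
  rw [B_suml, Finset.sum_eq_single i]
  · rw [b.smul_left, H.fe, if_pos rfl]
    linear_combination (-d i) * H.kind.sq
  · intro k _ hk
    rw [b.smul_left, H.fe, if_neg hk, mul_zero]
  · intro h; exact absurd (Finset.mem_univ _) h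

theorem mem_e {c : V} (hc : c ∈ Submodule.span K (Set.range e)) : c = ∑ i, b.B c (f i) • e i := by
  obtain ⟨d, rfl⟩ := (Submodule.mem_span_range_iff_exists_fun K).1 hc
  refine Finset.sum_congr rfl fun i _ => ?_
  congr 1
  rw [B_suml, Finset.sum_eq_single i]
  · rw [b.smul_left, H.ef, if_pos rfl, mul_one]
  · intro k _ hk
    rw [b.smul_left, H.ef, if_neg hk, mul_zero]
  · intro h; exact absurd (Finset.mem_univ _) h

theorem eq_zero_f {c : V} (hc : c ∈ Submodule.span K (Set.range f)) (h : ∀ i, b.B c (e i) = 0) : c = 0 := by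
  rw [H.mem_f hc]
  exact Finset.sum_eq_zero fun i _ => by rw [h, mul_zero, zero_smul]

theorem eq_zero_e {c : V} (hc : c ∈ Submodule.span K (Set.range e)) (h : ∀ i, b.B c (f i) = 0) : c = 0 := by
  rw [H.mem_e hc]
  exact Finset.sum_eq_zero fun i _ => by rw [h, zero_smul]

omit H in
theorem perp_span {g : Fin (l + 1) → V} {v : V} (h : ∀ i, b.B v (g i) = 0) {c : V}
    (hc : c ∈ Submodule.span K (Set.range g)) : b.B v c = 0 := by
  obtain ⟨d, rfl⟩ := (Submodule.mem_span_range_iff_exists_fun K).1 hc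
  rw [B_sumr]
  exact Finset.sum_eq_zero fun i _ => by rw [b.smul_right, h, mul_zero]

omit H in
theorem span_perp {g : Fin (l + 1) → V} {v : V} (h : ∀ i, b.B (g i) v = 0) {c : V}
    (hc : c ∈ Submodule.span K (Set.range g)) : b.B c v = 0 := by
  obtain ⟨d, rfl⟩ := (Submodule.mem_span_range_iff_exists_fun K).1 hc
  rw [B_suml]
  exact Finset.sum_eq_zero fun i _ => by rw [b.smul_left, h, mul_zero]

theorem Rm_mem (m : Fin (l + 1) → Fin (l + 1) → K) (v : V) : Rm b ε e m v ∈ Submodule.span K (Set.range e) := by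
  rw [Rm_apply]
  exact Submodule.sum_mem _ fun j _ => Submodule.smul_mem _ _ (Submodule.sum_mem _ fun k _ =>
    Submodule.smul_mem _ _ (Submodule.subset_span ⟨k, rfl⟩))

end Hy

end hyp

end Cfsg.Agent.H5.FC
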