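import Mathlib

/-!
# S5764 [B-PAR]: rigid triples of skew matrices (helper5)

`Trip τ ε l m` : three matrices `m t` with `m = -ε τ(m)ᵀ` such that a `σ`-semilinear pair `(κ, lam)` with
`lam σ(mᵀ) = mᵀ κ` is scalar.
-/

set_option autoImplicit false

namespace Cfsg.Agent.H5.FC

universe u

variable {K : Type u} [Field K]

/-- the kind of the form: unitary or symplectic -/
def KindE (τ : K ≃+* K) (ε : K) : Prop := (ε = 1 ∧ ∃ a, τ a ≠ a) ∨ (ε = -1 ∧ ∀ a, τ a = a)

theorem exists_zeta {τ : K ≃+* K} (hτ : ∀ a, τ (τ a) = a) {ε : K} (h : KindE τ ε) : ∃ ζ : K, ζ ≠ 0 ∧ τ ζ = -(ε * ζ) := by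
  rcases h with ⟨rfl, a, ha⟩ | ⟨rfl, h⟩
  · refine ⟨a - τ a, sub_ne_zero.2 (Ne.symm ha), ?_⟩
    rw [map_sub, hτ]
    ring
  · exact ⟨1, one_ne_zero, by rw [h]; ring⟩

theorem exists_gamma [Finite K] : ∃ γ : K, γ ≠ 0 ∧ ∀ σ : K ≃+* K, σ γ = γ → σ = RingEquiv.refl K := by
  obtain ⟨g, hg⟩ := IsCyclic.exists_generator (α := Kˣ)
  refine ⟨g, g.ne_zero, fun σ h => ?_⟩
  ext x
  by_cases hx : x = 0
  · rw [hx, map_zero, map_zero]
  · obtain ⟨n, hn⟩ := Subgroup.mem_zpowers_iff.1 (hg (Units.mk0 x hx))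
    have h1 : x = (g : K) ^ n := by
      rw [← Units.val_zpow_eq_zpow_val, hn, Units.val_mk0]
    rw [h1, map_zpow₀, h]
    rfl

/-- a rigid triple of skew matrices -/
structure Trip (τ : K ≃+* K) (ε : K) (l : ℕ) (m : Fin 3 → Fin (l + 1) → Fin (l + 1) → K) : Prop where
  skew : ∀ t i j, m t i j = -(ε * τ (m t j i))
  rig : ∀ (σ : K ≃+* K) (κ lam : Fin (l + 1) → Fin (l + 1) → K), (∃ i, κ i 0 ≠ 0) →
    (∀ t i j, ∑ k, σ (m t j k) * lam i k = ∑ s, κ s j * m t s i) →
    (1 ≤ l → σ = RingEquiv.refl K) ∧ ∃ c, ∀ i j, κ i j = if i = j then c else 0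

/-- the antidiagonal matrix -/
def mJ (ζ : K) (l : ℕ) (i j : Fin (l + 1)) : K := if (i : ℕ) + j = l then ζ else 0

/-- the shifted antidiagonal matrix -/
def mN (ζ : K) (l : ℕ) (i j : Fin (l + 1)) : K := if (i : ℕ) + j = l + 1 then ζ else 0

theorem mJ_sum_right {ζ : K} {l : ℕ} {σ : K ≃+* K} {x : Fin (l + 1) → K} (j : Fin (l + 1)) :
    ∑ k, σ (mJ ζ l j k) * x k = σ ζ * x (Fin.rev j) := by
  rw [Finset.sum_eq_single (Fin.rev j)]
  · rw [mJ, if_pos]
    rw [Fin.val_rev]; omega
  · intro k _ hk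
    rw [mJ, if_neg, map_zero, zero_mul]
    intro h
    apply hk
    apply Fin.ext
    rw [Fin.val_rev]; omega
  · intro h; exact absurd (Finset.mem_univ _) h

theorem mJ_sum_left {ζ : K} {l : ℕ} {x : Fin (l + 1) → K} (i : Fin (l + 1)) :
    ∑ s, x s * mJ ζ l s i = x (Fin.rev i) * ζ := by
  rw [Finset.sum_eq_single (Fin.rev i)]
  · rw [mJ, if_pos]
    rw [Fin.val_rev]; omega
  · intro k _ hk
    rw [mJ, if_neg, mul_zero]
    intro h
    apply hk
    apply Fin.ext
    rw [Fin.val_rev]; omega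
  · intro h; exact absurd (Finset.mem_univ _) h

theorem mN_sum_right {ζ : K} {l : ℕ} {σ : K ≃+* K} {x : Fin (l + 1) → K} (j j' : Fin (l + 1))
    (h : (j : ℕ) + j' = l + 1) : ∑ k, σ (mN ζ l j k) * x k = σ ζ * x j' := by
  rw [Finset.sum_eq_single j']
  · rw [mN, if_pos h]
  · intro k _ hk
    rw [mN, if_neg, map_zero, zero_mul]
    intro h'
    apply hk
    apply Fin.ext
    omega
  · intro h; exact absurd (Finset.mem_univ _) h

theorem mN_sum_right0 {ζ : K} {l : ℕ} {σ : K ≃+* K} {x : Fin (l + 1) → K} :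
    ∑ k, σ (mN ζ l 0 k) * x k = 0 := by
  refine Finset.sum_eq_zero fun k _ => ?_
  have := k.2
  rw [mN, if_neg (by simp only [Fin.val_zero]; omega), map_zero, zero_mul]

theorem mN_sum_left {ζ : K} {l : ℕ} {x : Fin (l + 1) → K} (i i' : Fin (l + 1))
    (h : (i : ℕ) + i' = l + 1) : ∑ s, x s * mN ζ l s i = x i' * ζ := by
  rw [Finset.sum_eq_single i']
  · rw [mN, if_pos (by omega)]
  · intro k _ hk
    rw [mN, if_neg, mul_zero]
    intro h'
    apply hk
    apply Fin.ext
    omega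
  · intro h; exact absurd (Finset.mem_univ _) h

theorem mN_sum_left0 {ζ : K} {l : ℕ} {x : Fin (l + 1) → K} :
    ∑ s, x s * mN ζ l s 0 = 0 := by
  refine Finset.sum_eq_zero fun k _ => ?_
  have := k.2
  rw [mN, if_neg (by simp only [Fin.val_zero]; omega), mul_zero]

/-- the consequences of the equations for `mJ` and `mN` -/
theorem toeplitz {ζ : K} (hζ : ζ ≠ 0) {l : ℕ} {σ : K ≃+* K} {κ lam : Fin (l + 1) → Fin (l + 1) → K}
    (hJ : ∀ i j, ∑ k, σ (mJ ζ l j k) * lam i k = ∑ s, κ s j * mJ ζ l s i)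
    (hN : ∀ i j, ∑ k, σ (mN ζ l j k) * lam i k = ∑ s, κ s j * mN ζ l s i) :
    (∀ i k, σ ζ * lam i k = κ (Fin.rev i) (Fin.rev k) * ζ) ∧
    (∀ i, i ≠ 0 → κ i 0 = 0) ∧ (∀ s j s' j' : Fin (l + 1), (s' : ℕ) = s + 1 → (j' : ℕ) = j + 1 → κ s j = κ s' j') := by
  have h1 : ∀ i k, σ ζ * lam i k = κ (Fin.rev i) (Fin.rev k) * ζ := by
    intro i k
    have := hJ i (Fin.rev k)
    rwa [mJ_sum_right, mJ_sum_left, Fin.rev_rev] at this
  refine ⟨h1, fun i hi => ?_, fun s j s' j' hs hj => ?_⟩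
  · have hi' : (i : ℕ) ≠ 0 := fun h => hi (Fin.ext h)
    have hi2 := i.2
    have h2 := hN ⟨l + 1 - i, by omega⟩ 0
    rw [mN_sum_right0, mN_sum_left _ i (by simp only; omega)] at h2
    exact (mul_eq_zero.1 h2.symm).resolve_right hζ
  · have hs2 := s'.2
    have hj2 := j'.2
    have h2 := hN ⟨l + 1 - s', by omega⟩ j'
    rw [mN_sum_right j' ⟨l + 1 - j', by omega⟩ (by simp only; omega),
      mN_sum_left _ s' (by simp only; omega), h1] at h2
    have h3 := mul_right_cancel₀ hζ h2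
    rw [← h3]
    congr 1
    · apply Fin.ext
      rw [Fin.val_rev]
      simp only
      omega
    · apply Fin.ext
      rw [Fin.val_rev]
      simp only
      omega

/-- an upper triangular Toeplitz matrix with zero first row outside the diagonal is scalar -/
theorem scalar_of {l : ℕ} {κ : Fin (l + 1) → Fin (l + 1) → K} (h0 : ∀ i, i ≠ 0 → κ i 0 = 0)
    (h0' : ∀ j, j ≠ 0 → κ 0 j = 0)
    (h1 : ∀ s j s' j' : Fin (l + 1), (s' : ℕ) = s + 1 → (j' : ℕ) = j + 1 → κ s j = κ s' j') :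
    ∀ i j, κ i j = if i = j then κ 0 0 else 0 := by
  have key : ∀ n : ℕ, ∀ i j : Fin (l + 1), (i : ℕ) = n → κ i j = if i = j then κ 0 0 else 0 := by
    intro n
    induction n with
    | zero =>
      intro i j hi
      have hi0 : i = 0 := Fin.ext hi
      subst hi0
      by_cases hj : j = 0
      · rw [hj, if_pos rfl]
      · rw [h0' j hj, if_neg (Ne.symm hj)]
    | succ n ih =>
      intro i j hi
      by_cases hj : j = 0
      · have hi0 : i ≠ 0 := by
          intro h
          rw [h] at hi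
          simp at hi
        rw [hj, h0 i hi0, if_neg hi0]
      · have hj' : (j : ℕ) ≠ 0 := fun h => hj (Fin.ext h)
        have hi2 := i.2
        have hj2 := j.2
        rw [← h1 ⟨n, by omega⟩ ⟨j - 1, by omega⟩ i j (by simp only; omega) (by simp only; omega), ih _ _ rfl]
        by_cases hij : i = j
        · rw [if_pos hij, if_pos]
          apply Fin.ext
          simp only
          rw [← hij]
          omega
        · rw [if_neg hij, if_neg]
          intro h
          apply hij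
          have := congrArg Fin.val h
          simp only at this
          apply Fin.ext
          omega
  exact fun i j => key i i j rfl

omit [Field K] in
theorem diag_eq {l : ℕ} {κ : Fin (l + 1) → Fin (l + 1) → K}
    (h1 : ∀ s j s' j' : Fin (l + 1), (s' : ℕ) = s + 1 → (j' : ℕ) = j + 1 → κ s j = κ s' j') :
    ∀ n : ℕ, ∀ i : Fin (l + 1), (i : ℕ) = n → κ i i = κ 0 0 := by
  intro n
  induction n with
  | zero =>
    intro i hi
    rw [show i = 0 from Fin.ext hi]
  | succ n ih =>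
    intro i hi
    have hi2 := i.2
    rw [← h1 ⟨n, by omega⟩ ⟨n, by omega⟩ i i (by simp only; omega) (by simp only; omega), ih _ rfl]

/-- the third matrix, symplectic case -/
def mS (γ : K) (l : ℕ) (i j : Fin (l + 1)) : K := if i = 0 ∧ j = 0 then γ else 0

/-- the third matrix, unitary case -/
def mU (x y : K) (l : ℕ) (i j : Fin (l + 1)) : K :=
  if i = 0 ∧ j = Fin.last l then x else if i = Fin.last l ∧ j = 0 then y else 0

theorem exists_trip [Finite K] {τ : K ≃+* K} (hτ : ∀ a, τ (τ a) = a) {ε : K} (h : KindE τ ε) {ζ : K} (hζ : ζ ≠ 0)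
    (hζτ : τ ζ = -(ε * ζ)) (l : ℕ) : ∃ m, Trip τ ε l m := by
  obtain ⟨γ, hγ0, hγ⟩ := exists_gamma (K := K)
  have hε : ε * ε = 1 := by
    rcases h with ⟨rfl, -⟩ | ⟨rfl, -⟩ <;> ring
  have hετ : τ ε = ε := by
    rcases h with ⟨rfl, -⟩ | ⟨rfl, -⟩
    · exact map_one τ
    · rw [map_neg, map_one]
  have hζ1 : ζ = -(ε * τ ζ) := by
    rw [hζτ]
    linear_combination (-ζ) * hε
  have skJ : ∀ i j, mJ ζ l i j = -(ε * τ (mJ ζ l j i)) := by
    intro i j
    rw [mJ, mJ]
    by_cases hij : (i : ℕ) + j = l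
    · rw [if_pos hij, if_pos (by omega)]
      exact hζ1
    · rw [if_neg hij, if_neg (by omega), map_zero, mul_zero, neg_zero]
  have skN : ∀ i j, mN ζ l i j = -(ε * τ (mN ζ l j i)) := by
    intro i j
    rw [mN, mN]
    by_cases hij : (i : ℕ) + j = l + 1
    · rw [if_pos hij, if_pos (by omega)]
      exact hζ1
    · rw [if_neg hij, if_neg (by omega), map_zero, mul_zero, neg_zero]
  rcases Nat.eq_zero_or_pos l with rfl | hl
  · -- `l = 0`
    refine ⟨fun _ => mJ ζ 0, fun _ => skJ, fun σ κ lam _ _ => ⟨fun h => absurd h (by omega), κ 0 0, fun i j => ?_⟩⟩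
    have hi : i = 0 := Fin.ext (by omega)
    have hj : j = 0 := Fin.ext (by omega)
    rw [hi, hj, if_pos rfl]
  rcases h with ⟨rfl, hne⟩ | ⟨rfl, hid⟩
  · -- unitary
    have hγτ : τ γ ≠ γ := by
      intro h
      obtain ⟨a, ha⟩ := hne
      rw [hγ τ h] at ha
      exact ha rfl
    have hl0 : Fin.last l ≠ 0 := by
      intro h
      have := congrArg Fin.val h
      simp at this
      omega
    refine ⟨![mJ ζ l, mU (ζ * γ) (ζ * τ γ) l, mN ζ l], ?_, ?_⟩
    · intro t
      fin_cases t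
      · exact skJ
      · intro i j
        change mU _ _ l i j = -(1 * τ (mU _ _ l j i))
        rw [mU, mU]
        by_cases h1 : i = 0 ∧ j = Fin.last l
        · rw [if_pos h1, if_neg, if_pos ⟨h1.2, h1.1⟩, map_mul, hτ, hζτ]
          · ring
          · rintro ⟨h2, -⟩
            exact hl0 (h1.2.symm.trans h2)
        · by_cases h2 : i = Fin.last l ∧ j = 0
          · rw [if_neg h1, if_pos h2, if_pos ⟨h2.2, h2.1⟩, map_mul, hζτ]
            ring
          · rw [if_neg h1, if_neg h2, if_neg fun h => h2 ⟨h.2, h.1⟩, if_neg fun h => h1 ⟨h.2, h.1⟩, map_zero,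
              mul_zero, neg_zero]
      · exact skN
    · rintro σ κ lam ⟨i₀, hi₀⟩ hm
      obtain ⟨t1, t2, t3⟩ := toeplitz hζ (hm 0) (hm 2)
      have hU : ∀ i j, ∑ k, σ (mU (ζ * γ) (ζ * τ γ) l j k) * lam i k = ∑ s, κ s j * mU (ζ * γ) (ζ * τ γ) l s i := hm 1
      have hκ : κ 0 0 ≠ 0 := by
        intro h
        apply hi₀
        by_cases hi : i₀ = 0
        · rw [hi]; exact h
        · exact t2 _ hi
      -- the sums
      have sL0 : ∀ i, ∑ k, σ (mU (ζ * γ) (ζ * τ γ) l 0 k) * lam i k = σ (ζ * γ) * lam i (Fin.last l) := by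
        intro i
        rw [Finset.sum_eq_single (Fin.last l)]
        · rw [mU, if_pos ⟨rfl, rfl⟩]
        · intro k _ hk
          rw [mU, if_neg fun h => hk h.2, if_neg fun h => hl0 h.1.symm, map_zero, zero_mul]
        · intro h; exact absurd (Finset.mem_univ _) h
      have sLl : ∀ i, ∑ k, σ (mU (ζ * γ) (ζ * τ γ) l (Fin.last l) k) * lam i k = σ (ζ * τ γ) * lam i 0 := by
        intro i
        rw [Finset.sum_eq_single 0]
        · rw [mU, if_neg fun h => hl0 h.1, if_pos ⟨rfl, rfl⟩]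
        · intro k _ hk
          rw [mU, if_neg fun h => hl0 h.1, if_neg fun h => hk h.2, map_zero, zero_mul]
        · intro h; exact absurd (Finset.mem_univ _) h
      have sL : ∀ i j, j ≠ 0 → j ≠ Fin.last l → ∑ k, σ (mU (ζ * γ) (ζ * τ γ) l j k) * lam i k = 0 := by
        intro i j h1 h2
        refine Finset.sum_eq_zero fun k _ => ?_
        rw [mU, if_neg fun h => h1 h.1, if_neg fun h => h2 h.1, map_zero, zero_mul]
      have sR : ∀ j, ∑ s, κ s j * mU (ζ * γ) (ζ * τ γ) l s (Fin.last l) = κ 0 j * (ζ * γ) := by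
        intro j
        rw [Finset.sum_eq_single 0]
        · rw [mU, if_pos ⟨rfl, rfl⟩]
        · intro k _ hk
          rw [mU, if_neg fun h => hk h.1, if_neg fun h => hl0 h.2, mul_zero]
        · intro h; exact absurd (Finset.mem_univ _) h
      have e1 := hU (Fin.last l) 0
      rw [sL0, sR, map_mul] at e1
      have e2 := t1 (Fin.last l) (Fin.last l)
      rw [Fin.rev_last] at e2
      have hσγ : σ γ = γ := by
        have h3 : σ γ * (κ 0 0 * ζ) = γ * (κ 0 0 * ζ) := by
          linear_combination e1 - σ γ * e2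
        exact mul_right_cancel₀ (mul_ne_zero hκ hζ) h3
      have hσ := hγ σ hσγ
      refine ⟨fun _ => hσ, κ 0 0, ?_⟩
      subst hσ
      refine scalar_of t2 (fun j hj => ?_) t3
      by_cases hjl : j = Fin.last l
      · have e3 := hU (Fin.last l) (Fin.last l)
        rw [sLl, sR] at e3
        have e4 := t1 (Fin.last l) 0
        rw [Fin.rev_last, Fin.rev_zero] at e4
        simp only [RingEquiv.refl_apply] at e3 e4
        rw [hjl]
        have e5 : (τ γ - γ) * (κ 0 (Fin.last l) * ζ) = 0 := by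
          linear_combination e3 - τ γ * e4
        have e6 := (mul_eq_zero.1 e5).resolve_left (sub_ne_zero.2 hγτ)
        exact (mul_eq_zero.1 e6).resolve_right hζ
      · have e3 := hU (Fin.last l) j
        rw [sL _ _ hj hjl, sR] at e3
        exact (mul_eq_zero.1 e3.symm).resolve_right (mul_ne_zero hζ hγ0)
  · -- symplectic
    refine ⟨![mJ ζ l, mS (ζ * γ) l, mN ζ l], ?_, ?_⟩
    · intro t
      fin_cases t
      · exact skJ
      · intro i j
        change mS _ l i j = -(-1 * τ (mS _ l j i))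
        rw [hid, mS, mS]
        by_cases h1 : i = 0 ∧ j = 0
        · rw [if_pos h1, if_pos ⟨h1.2, h1.1⟩]
          ring
        · rw [if_neg h1, if_neg fun h => h1 ⟨h.2, h.1⟩]
          ring
      · exact skN
    · rintro σ κ lam ⟨i₀, hi₀⟩ hm
      obtain ⟨t1, t2, t3⟩ := toeplitz hζ (hm 0) (hm 2)
      have hS : ∀ i j, ∑ k, σ (mS (ζ * γ) l j k) * lam i k = ∑ s, κ s j * mS (ζ * γ) l s i := hm 1
      have hκ : κ 0 0 ≠ 0 := by
        intro h
        apply hi₀
        by_cases hi : i₀ = 0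
        · rw [hi]; exact h
        · exact t2 _ hi
      have sR : ∀ j, ∑ s, κ s j * mS (ζ * γ) l s 0 = κ 0 j * (ζ * γ) := by
        intro j
        rw [Finset.sum_eq_single 0]
        · rw [mS, if_pos ⟨rfl, rfl⟩]
        · intro k _ hk
          rw [mS, if_neg fun h => hk h.1, mul_zero]
        · intro h; exact absurd (Finset.mem_univ _) h
      have sL0 : ∀ i, ∑ k, σ (mS (ζ * γ) l 0 k) * lam i k = σ (ζ * γ) * lam i 0 := by
        intro i
        rw [Finset.sum_eq_single 0]
        · rw [mS, if_pos ⟨rfl, rfl⟩]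
        · intro k _ hk
          rw [mS, if_neg fun h => hk h.2, map_zero, zero_mul]
        · intro h; exact absurd (Finset.mem_univ _) h
      have sL : ∀ i j, j ≠ 0 → ∑ k, σ (mS (ζ * γ) l j k) * lam i k = 0 := by
        intro i j h1
        refine Finset.sum_eq_zero fun k _ => ?_
        rw [mS, if_neg fun h => h1 h.1, map_zero, zero_mul]
      have e1 := hS 0 0
      rw [sL0, sR] at e1
      have e2 := t1 0 0
      rw [Fin.rev_zero, diag_eq t3 l (Fin.last l) (Fin.val_last l)] at e2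
      have hσγ : σ γ = γ := by
        rw [map_mul] at e1
        have h3 : σ γ * (κ 0 0 * ζ) = γ * (κ 0 0 * ζ) := by
          linear_combination e1 - σ γ * e2
        exact mul_right_cancel₀ (mul_ne_zero hκ hζ) h3
      refine ⟨fun _ => hγ σ hσγ, κ 0 0, scalar_of t2 (fun j hj => ?_) t3⟩
      have e3 := hS 0 j
      rw [sL _ _ hj, sR] at e3
      exact (mul_eq_zero.1 e3.symm).resolve_right (mul_ne_zero hζ hγ0)

end Cfsg.Agent.H5.FC
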